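import Groth.Agent.Lib.DerCat.Truncation
import Groth.Agent.Lib.ClassResolution.Basic

/-!
# The lemma on way-out functors
-/

universe w w' v v' u u'

open CategoryTheory Limits Pretriangulated DerivedCategory GrothLib.DerTrunc

namespace GrothLib.WayOut

variable {A : Type u} [Category.{v} A] [Abelian A] [HasDerivedCategory.{w} A]
  {B : Type u'} [Category.{v'} B] [Abelian B] [HasDerivedCategory.{w'} B]
  {F G : DerivedCategory A ⥤ DerivedCategory B} [F.CommShift ℤ] [G.CommShift ℤ]
  [F.IsTriangulated] [G.IsTriangulated] {η : F ⟶ G} [NatTrans.CommShift η ℤ]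

lemma isIso_homology_app {X Y : DerivedCategory A} (f : X ⟶ Y) (j : ℤ)
    [IsIso ((homologyFunctor B j).map (F.map f))] [IsIso ((homologyFunctor B j).map (G.map f))]
    (h : IsIso ((homologyFunctor B j).map (η.app X))) :
    IsIso ((homologyFunctor B j).map (η.app Y)) := by
  have e : (homologyFunctor B j).map (F.map f) ≫ (homologyFunctor B j).map (η.app Y) =
      (homologyFunctor B j).map (η.app X) ≫ (homologyFunctor B j).map (G.map f) := by
    rw [← Functor.map_comp, ← Functor.map_comp, η.naturality]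
  exact IsIso.of_isIso_fac_left e

lemma isIso_homology_app' {X Y : DerivedCategory A} (f : X ⟶ Y) (j : ℤ)
    [IsIso ((homologyFunctor B j).map (F.map f))] [IsIso ((homologyFunctor B j).map (G.map f))]
    (h : IsIso ((homologyFunctor B j).map (η.app Y))) :
    IsIso ((homologyFunctor B j).map (η.app X)) := by
  have e : (homologyFunctor B j).map (η.app X) ≫ (homologyFunctor B j).map (G.map f) =
      (homologyFunctor B j).map (F.map f) ≫ (homologyFunctor B j).map (η.app Y) := by
    rw [← Functor.map_comp, ← Functor.map_comp, η.naturality]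
  exact IsIso.of_isIso_fac_right e

variable (η) (P : ObjectProperty A) [P.IsClosedUnderIsomorphisms]
  (hη : ∀ X : A, P X → IsIso (η.app ((singleFunctor A 0).obj X)))

include hη

/-- Bounded case. -/
theorem isIso_of_bounded (X : DerivedCategory A) (a b : ℤ) [hga : X.IsGE a] [hlb : X.IsLE b]
    (hX : ∀ i, a ≤ i → i ≤ b → P ((homologyFunctor A i).obj X)) : IsIso (η.app X) := by
  haveI : X.IsLE (a + (b - a).toNat) :=
    (DerivedCategory.isLE_iff _ _).2 fun i hi => isZero_of_isLE X b i (by omega)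
  refine isIso_app_of_bounded η (b - a).toNat X a fun q hq => ?_
  by_cases hqb : q ≤ b
  · exact hη _ (hX q hq hqb)
  · have hz := (singleFunctor A 0).map_isZero (isZero_of_isLE X b q (by omega))
    exact ⟨0, (F.map_isZero hz).eq_of_src _ _, (G.map_isZero hz).eq_of_src _ _⟩

variable (hF : ∀ n₁ : ℤ, ∃ n₂ : ℤ, ∀ Y : DerivedCategory A, Y.IsGE n₂ → (F.obj Y).IsGE n₁)
  (hG : ∀ n₁ : ℤ, ∃ n₂ : ℤ, ∀ Y : DerivedCategory A, Y.IsGE n₂ → (G.obj Y).IsGE n₁)

include hF hG

/-- Bounded below case. -/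
theorem isIso_of_isGE (X : DerivedCategory A) (a : ℤ) [hga : X.IsGE a]
    (hX : ∀ i, a ≤ i → P ((homologyFunctor A i).obj X)) : IsIso (η.app X) := by
  rw [DerivedCategory.isIso_iff]
  intro j
  obtain ⟨n₂, hn₂⟩ := hF (j + 1)
  obtain ⟨m₂, hm₂⟩ := hG (j + 1)
  obtain ⟨b, hb₁, hb₂, hb₃⟩ : ∃ b : ℤ, n₂ ≤ b ∧ m₂ ≤ b ∧ a < b :=
    ⟨max (max n₂ m₂) (a + 1), by omega, by omega, by omega⟩
  have hge : ∀ c, c ≤ b → ((TStructure.t.truncGE b).obj X).IsGE c := fun c hc =>
    (DerivedCategory.isGE_iff _ _).2 fun i hi => isZero_homology_truncGE X b i (by omega)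
  haveI := hn₂ _ (hge n₂ hb₁)
  haveI := hm₂ _ (hge m₂ hb₂)
  haveI : IsIso ((homologyFunctor B j).map (F.map ((TStructure.t.truncLTι b).app X))) :=
    isIso_homology_mor₁ (F.map_distinguished _ (TStructure.t.triangleLTGE_distinguished b X)) j
      (isZero_of_isGE (F.obj ((TStructure.t.truncGE b).obj X)) (j + 1) _ (by omega))
      (isZero_of_isGE (F.obj ((TStructure.t.truncGE b).obj X)) (j + 1) _ (by omega))
  haveI : IsIso ((homologyFunctor B j).map (G.map ((TStructure.t.truncLTι b).app X))) :=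
    isIso_homology_mor₁ (G.map_distinguished _ (TStructure.t.triangleLTGE_distinguished b X)) j
      (isZero_of_isGE (G.obj ((TStructure.t.truncGE b).obj X)) (j + 1) _ (by omega))
      (isZero_of_isGE (G.obj ((TStructure.t.truncGE b).obj X)) (j + 1) _ (by omega))
  haveI : ((TStructure.t.truncLT b).obj X).IsGE a :=
    inferInstanceAs (TStructure.t.IsGE ((TStructure.t.truncLT b).obj X) a)
  haveI : ((TStructure.t.truncLT b).obj X).IsLE (b - 1) :=
    TStructure.t.isLE_truncLT_obj X b (b - 1) (by omega)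
  haveI := isIso_of_bounded η P hη ((TStructure.t.truncLT b).obj X) a (b - 1) fun i h₁ h₂ => by
    haveI := isIso_homology_truncLTι X b i (by omega)
    exact P.prop_of_iso (asIso ((homologyFunctor A i).map ((TStructure.t.truncLTι b).app X))).symm
      (hX i h₁)
  exact isIso_homology_app ((TStructure.t.truncLTι b).app X) j inferInstance

/-- Unbounded case. -/
theorem isIso_of_both
    (hF' : ∀ n₁ : ℤ, ∃ n₂ : ℤ, ∀ Y : DerivedCategory A, Y.IsLE n₂ → (F.obj Y).IsLE n₁)
    (hG' : ∀ n₁ : ℤ, ∃ n₂ : ℤ, ∀ Y : DerivedCategory A, Y.IsLE n₂ → (G.obj Y).IsLE n₁)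
    (X : DerivedCategory A) (hX : ∀ i : ℤ, P ((homologyFunctor A i).obj X)) : IsIso (η.app X) := by
  rw [DerivedCategory.isIso_iff]
  intro j
  obtain ⟨n₂, hn₂⟩ := hF' (j - 1)
  obtain ⟨m₂, hm₂⟩ := hG' (j - 1)
  obtain ⟨c, hc₁, hc₂⟩ : ∃ c : ℤ, c - 1 ≤ n₂ ∧ c - 1 ≤ m₂ := ⟨min n₂ m₂, by omega, by omega⟩
  have hle : ∀ e, c - 1 ≤ e → ((TStructure.t.truncLT c).obj X).IsLE e := fun e he =>
    (DerivedCategory.isLE_iff _ _).2 fun i hi => isZero_homology_truncLT X c i (by omega)
  haveI := hn₂ _ (hle n₂ hc₁)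
  haveI := hm₂ _ (hle m₂ hc₂)
  haveI : IsIso ((homologyFunctor B j).map (F.map ((TStructure.t.truncGEπ c).app X))) :=
    isIso_homology_mor₂ (F.map_distinguished _ (TStructure.t.triangleLTGE_distinguished c X)) j
      (isZero_of_isLE (F.obj ((TStructure.t.truncLT c).obj X)) (j - 1) _ (by omega))
      (isZero_of_isLE (F.obj ((TStructure.t.truncLT c).obj X)) (j - 1) _ (by omega))
  haveI : IsIso ((homologyFunctor B j).map (G.map ((TStructure.t.truncGEπ c).app X))) :=
    isIso_homology_mor₂ (G.map_distinguished _ (TStructure.t.triangleLTGE_distinguished c X)) j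
      (isZero_of_isLE (G.obj ((TStructure.t.truncLT c).obj X)) (j - 1) _ (by omega))
      (isZero_of_isLE (G.obj ((TStructure.t.truncLT c).obj X)) (j - 1) _ (by omega))
  haveI : ((TStructure.t.truncGE c).obj X).IsGE c :=
    inferInstanceAs (TStructure.t.IsGE ((TStructure.t.truncGE c).obj X) c)
  haveI := isIso_of_isGE η P hη hF hG ((TStructure.t.truncGE c).obj X) c fun i h₁ => by
    haveI := isIso_homology_truncGEπ X c i h₁
    exact P.prop_of_iso (asIso ((homologyFunctor A i).map ((TStructure.t.truncGEπ c).app X))) (hX i)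
  exact isIso_homology_app' ((TStructure.t.truncGEπ c).app X) j inferInstance

omit [P.IsClosedUnderIsomorphisms] in
/-- Cogenerating class. -/
theorem isIso_single_of_cogenerating (hP : ∀ X : A, ∃ (Y : A) (i : X ⟶ Y), P Y ∧ Mono i) (X : A) :
    IsIso (η.app ((singleFunctor A 0).obj X)) := by
  have bound : ∀ (H : DerivedCategory A ⥤ DerivedCategory B) [H.CommShift ℤ],
      (∀ n₁ : ℤ, ∃ n₂ : ℤ, ∀ Y : DerivedCategory A, Y.IsGE n₂ → (H.obj Y).IsGE n₁) →
      ∃ N : ℤ, ∀ X : A, (H.obj ((singleFunctor A 0).obj X)).IsGE N := by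
    intro H _ hH
    obtain ⟨n₂, hn₂⟩ := hH 0
    refine ⟨-n₂, fun X => ?_⟩
    haveI h1 : (H.obj (((singleFunctor A 0).obj X)⟦-n₂⟧)).IsGE 0 :=
      hn₂ _ (TStructure.t.isGE_shift ((singleFunctor A 0).obj X) 0 (-n₂) n₂ (by omega))
    have h2 : TStructure.t.IsGE ((H.obj ((singleFunctor A 0).obj X))⟦-n₂⟧) 0 :=
      (TStructure.t (C := B)).ge 0 |>.prop_of_iso ((H.commShiftIso (-n₂)).app _) h1.ge |> fun h => ⟨h⟩
    exact (TStructure.t.isGE_shift_iff (H.obj ((singleFunctor A 0).obj X)) (-n₂) (-n₂) 0 (by omega)).1 h2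
  obtain ⟨N₁, hN₁⟩ := bound F hF
  obtain ⟨N₂, hN₂⟩ := bound G hG
  rw [DerivedCategory.isIso_iff]
  suffices key : ∀ (k : ℕ) (Z : A), IsIso ((homologyFunctor B (min N₁ N₂ - 1 + k)).map
      (η.app ((singleFunctor A 0).obj Z))) by
    intro j
    by_cases hj : j < min N₁ N₂
    · haveI := hN₁ X
      haveI := hN₂ X
      exact ⟨0, (isZero_of_isGE (F.obj ((singleFunctor A 0).obj X)) N₁ j (by omega)).eq_of_src _ _,
        (isZero_of_isGE (G.obj ((singleFunctor A 0).obj X)) N₂ j (by omega)).eq_of_src _ _⟩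
    · have := key (j - (min N₁ N₂ - 1)).toNat X
      rwa [show min N₁ N₂ - 1 + ((j - (min N₁ N₂ - 1)).toNat : ℤ) = j by omega] at this
  intro k
  induction k with
  | zero =>
    intro Z
    haveI := hN₁ Z
    haveI := hN₂ Z
    exact ⟨0, (isZero_of_isGE (F.obj ((singleFunctor A 0).obj Z)) N₁ _ (by omega)).eq_of_src _ _,
      (isZero_of_isGE (G.obj ((singleFunctor A 0).obj Z)) N₂ _ (by omega)).eq_of_src _ _⟩
  | succ k ih =>
    obtain ⟨n₀, hn₀⟩ : ∃ n₀, n₀ = min N₁ N₂ - 1 + (k : ℤ) := ⟨_, rfl⟩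
    obtain ⟨n₁, hn₁⟩ : ∃ n₁, n₁ = n₀ + 1 := ⟨_, rfl⟩
    rw [← hn₀] at ih
    rw [show min N₁ N₂ - 1 + ((k + 1 : ℕ) : ℤ) = n₁ by omega]
    -- setting for an embedding into an object of `P`
    have main : ∀ Z : A, Mono ((homologyFunctor B n₁).map (η.app ((singleFunctor A 0).obj Z))) ∧
        ((∀ Q : A, Mono ((homologyFunctor B n₁).map (η.app ((singleFunctor A 0).obj Q)))) →
          Epi ((homologyFunctor B n₁).map (η.app ((singleFunctor A 0).obj Z)))) := by
      intro Z
      obtain ⟨Y, i, hY, hi⟩ := hP Z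
      let S : ShortComplex A := ShortComplex.mk i (cokernel.π i) (cokernel.condition i)
      have hS : S.ShortExact := { exact := ShortComplex.exact_cokernel i }
      let T := hS.singleTriangle
      have hT : T ∈ distTriang _ := hS.singleTriangle_distinguished
      have hF' := F.map_distinguished T hT
      have hG' := G.map_distinguished T hT
      let φ : F.mapTriangle.obj T ⟶ G.mapTriangle.obj T :=
        { hom₁ := η.app _
          hom₂ := η.app _
          hom₃ := η.app _
          comm₁ := η.naturality _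
          comm₂ := η.naturality _
          comm₃ := by
            change (F.map T.mor₃ ≫ (F.commShiftIso (1 : ℤ)).hom.app T.obj₁) ≫ (η.app _)⟦(1 : ℤ)⟧' =
              η.app _ ≫ G.map T.mor₃ ≫ (G.commShiftIso (1 : ℤ)).hom.app T.obj₁
            rw [Category.assoc, NatTrans.shift_app_comm, η.naturality_assoc] }
      let δF := HomologySequence.δ (F.mapTriangle.obj T) n₀ n₁ (by omega)
      let δG := HomologySequence.δ (G.mapTriangle.obj T) n₀ n₁ (by omega)
      let η₁ := (homologyFunctor B n₁).map φ.hom₁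
      let η₂ := (homologyFunctor B n₁).map φ.hom₂
      let η₃ := (homologyFunctor B n₁).map φ.hom₃
      let ζ₂ := (homologyFunctor B n₀).map φ.hom₂
      let ζ₃ := (homologyFunctor B n₀).map φ.hom₃
      let f₁ := (homologyFunctor B n₁).map (F.mapTriangle.obj T).mor₁
      let f₂ := (homologyFunctor B n₁).map (F.mapTriangle.obj T).mor₂
      let f₀ := (homologyFunctor B n₀).map (F.mapTriangle.obj T).mor₂
      let g₁ := (homologyFunctor B n₁).map (G.mapTriangle.obj T).mor₁
      let g₂ := (homologyFunctor B n₁).map (G.mapTriangle.obj T).mor₂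
      let g₀ := (homologyFunctor B n₀).map (G.mapTriangle.obj T).mor₂
      have c₁ : f₁ ≫ η₂ = η₁ ≫ g₁ := by
        simp only [f₁, g₁, η₁, η₂, ← Functor.map_comp, φ.comm₁]
      have c₂ : f₂ ≫ η₃ = η₂ ≫ g₂ := by
        simp only [f₂, g₂, η₂, η₃, ← Functor.map_comp, φ.comm₂]
      have c₀ : f₀ ≫ ζ₃ = ζ₂ ≫ g₀ := by
        simp only [f₀, g₀, ζ₂, ζ₃, ← Functor.map_comp, φ.comm₂]
      have cδ : ζ₃ ≫ δG = δF ≫ η₁ :=
        (homologyFunctor B 0).homologySequenceδ_naturality _ _ φ n₀ n₁ (by omega)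
      haveI := hη Y hY
      haveI : IsIso η₂ := inferInstanceAs (IsIso ((homologyFunctor B n₁).map
        (η.app ((singleFunctor A 0).obj Y))))
      haveI : IsIso ζ₂ := inferInstanceAs (IsIso ((homologyFunctor B n₀).map
        (η.app ((singleFunctor A 0).obj Y))))
      haveI : IsIso ζ₃ := ih S.X₃
      refine ⟨?_, fun hmono => ?_⟩
      · change Mono η₁
        refine Preadditive.mono_of_cancel_zero _ fun {W} x hx => ?_
        have h1 : x ≫ f₁ = 0 := by
          rw [← cancel_mono η₂, zero_comp, Category.assoc, c₁, reassoc_of% hx, zero_comp]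
        obtain ⟨W', q, hq, u, hu⟩ :=
          (HomologySequence.exact₁ _ hF' n₀ n₁ (by omega)).exact_up_to_refinements x h1
        have h2 : (u ≫ ζ₃) ≫ δG = 0 := by
          rw [Category.assoc, cδ]
          change u ≫ δF ≫ η₁ = 0
          rw [← Category.assoc, show u ≫ δF = q ≫ x from hu.symm, Category.assoc, hx, comp_zero]
        obtain ⟨W'', q', hq', z, hz⟩ :=
          (HomologySequence.exact₃ _ hG' n₀ n₁ (by omega)).exact_up_to_refinements (u ≫ ζ₃) h2
        have h3 : q' ≫ u = (z ≫ inv ζ₂) ≫ f₀ := by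
          rw [← cancel_mono ζ₃, Category.assoc, Category.assoc, Category.assoc, c₀,
            IsIso.inv_hom_id_assoc]
          exact hz
        have h4 : f₀ ≫ δF = 0 := HomologySequence.comp_δ _ hF' n₀ n₁ (by omega)
        rw [← cancel_epi q, ← cancel_epi q', comp_zero, comp_zero,
          show q ≫ x = u ≫ δF from hu, ← Category.assoc, h3, Category.assoc, h4, comp_zero]
      · change Epi η₁
        rw [epi_iff_surjective_up_to_refinements]
        intro W y
        haveI : Mono η₃ := hmono S.X₃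
        have h1 : ((y ≫ g₁) ≫ inv η₂) ≫ f₂ = 0 := by
          rw [← cancel_mono η₃, zero_comp, Category.assoc, Category.assoc, c₂,
            IsIso.inv_hom_id_assoc, Category.assoc, ← Functor.map_comp,
            Pretriangulated.comp_distTriang_mor_zero₁₂ _ hG', Functor.map_zero, comp_zero]
        obtain ⟨W', q, hq, v, hv⟩ :=
          (HomologySequence.exact₂ _ hF' n₁).exact_up_to_refinements _ h1
        have hv' : (q ≫ y) ≫ g₁ = (v ≫ η₁) ≫ g₁ := by
          have := congrArg (· ≫ η₂) hv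
          simp only [Category.assoc, IsIso.inv_hom_id, Category.comp_id] at this
          rw [Category.assoc, Category.assoc, ← c₁, this]
        obtain ⟨W'', q', hq', u, hu⟩ :=
          (HomologySequence.exact₁ _ hG' n₀ n₁ (by omega)).exact_up_to_refinements
            (q ≫ y - v ≫ η₁) (by
              change (q ≫ y - v ≫ η₁) ≫ g₁ = 0
              rw [Preadditive.sub_comp, sub_eq_zero]; exact hv')
        refine ⟨W'', q' ≫ q, epi_comp _ _, q' ≫ v + (u ≫ inv ζ₃) ≫ δF, ?_⟩
        have hu' : q' ≫ (q ≫ y - v ≫ η₁) = u ≫ δG := hu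
        rw [Preadditive.add_comp, Category.assoc (u ≫ inv ζ₃), ← cδ, Category.assoc u,
          IsIso.inv_hom_id_assoc, ← hu', Preadditive.comp_sub, Category.assoc, Category.assoc]
        exact (add_sub_cancel _ _).symm
    intro Z
    haveI := (main Z).1
    haveI := (main Z).2 fun Q => (main Q).1
    exact isIso_of_mono_of_epi _

end GrothLib.WayOut
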